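import Cfsg.Agent.KZ.Ch3X.Gen_m3
import Cfsg.Agent.KZ.DatX.Main_m3
import Cfsg.Agent.Prune
set_option linter.all false

section
prune_inst 0x7fffbdfdffbfffffffff7e7fffffffffffffffffffdffbfbffefffffbfff7bffffedffaf7fe6f8ff8ed7e4fff1797b53ff7eefffef6fde7ffffdfff79ffbffffffffb5ac71fdbcbe3ffeefff9bf17fae7f3fffffffffffffffffffffffffffffffffffffffff

-- part: KZ/G2/Fin
section
prune_inst 0x2004000000000018000000000000000000000040000100000000080000012001080190600312813000e8204080081100010902100000000086004000000004a518202424100000000640e804000000000000000000000000000000000000000000000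
set_option linter.all false
open scoped Cfsg.Agent.FastGrp

/-!
# KZ, `G₂(q)` and `³D₄(q)`: finite checks (helper50)

Matrices are functions `ℕ → ℕ → ℤ`; `Ck` collects the checks for an enumeration of the Weyl group; `Ck.cm`.
-/

set_option autoImplicit false
set_option linter.unusedSectionVars false

namespace Cfsg.Agent.KZ.G2

open Cfsg Cfsg.Lie Cfsg.Agent.DL Cfsg.Agent.DL.PP Cfsg.Agent.KZ.Lie Cfsg.Agent.KZ.DatX Matrix CoxeterSystem
  Cfsg.Agent.Nodes.RGDChev Cfsg.Agent.ChevalleyStructure.CoxeterGeomTypes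

/-- matrices -/
abbrev FM : Type := ℕ → ℕ → ℤ

/-- the matrix of a list -/
def gt (a : List (List ℤ)) : FM := fun i j => (a.getD i []).getD j 0

/-- the matrix of a function -/
def toM (l : ℕ) (a : FM) : Matrix (Fin l) (Fin l) ℤ := Matrix.of fun i j => a i j

/-- the vector of a list -/
def toV (l : ℕ) (x : List ℤ) : Fin l → ℤ := fun i => x.getD i 0

/-- the product -/
def mF (l : ℕ) (a b : FM) : FM := fun i j => ((List.range l).map fun k => a i k * b k j).sum

/-- the identity -/
def oneF : FM := fun i j => if i = j then 1 else 0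

/-- equality -/
def eqF (l : ℕ) (a b : FM) : Bool := (List.range l).all fun i => (List.range l).all fun j => a i j == b i j

/-- congruence -/
def c3F (l : ℕ) (a b : FM) : Bool := (List.range l).all fun i => (List.range l).all fun j => (a i j - b i j) % 3 == 0

/-- the row `x` is fixed modulo `3` -/
def rowF (l : ℕ) (x : List ℤ) (a : FM) : Bool :=
  (List.range l).all fun j => (mF l (fun _ k => x.getD k 0) a 0 j - x.getD j 0) % 3 == 0

/-- the column `x` is fixed -/
def colF (l : ℕ) (a : FM) (x : List ℤ) : Bool :=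
  (List.range l).all fun i => mF l a (fun k _ => x.getD k 0) i 0 == x.getD i 0

variable {l : ℕ}

theorem mF_eq (a b : FM) (i j : ℕ) : mF l a b i j = ∑ k : Fin l, a i k * b k j := by
  rw [mF, Fin.sum_univ_eq_sum_range (fun k => a i k * b k j) l]
  rfl

theorem toM_mF (a b : FM) : toM l (mF l a b) = toM l a * toM l b := by
  ext i j
  exact mF_eq a b i j

theorem toM_one : toM l oneF = 1 := by
  ext i j
  simp [toM, oneF, one_apply, Fin.ext_iff]

theorem all_range {b : ℕ → Bool} : (List.range l).all b = true ↔ ∀ i : Fin l, b i = true := by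
  simp only [List.all_eq_true, List.mem_range]
  exact ⟨fun h i => h i i.2, fun h i hi => h ⟨i, hi⟩⟩

theorem eqF_iff {a b : FM} : eqF l a b = true ↔ toM l a = toM l b := by
  simp only [eqF, all_range, beq_iff_eq]
  exact ⟨fun h => Matrix.ext h, fun h i j => congrFun (congrFun h i) j⟩

theorem c3F_iff {a b : FM} : c3F l a b = true ↔ ∀ i j, 3 ∣ (toM l a - toM l b) i j := by
  simp only [c3F, all_range, beq_iff_eq, Int.dvd_iff_emod_eq_zero]
  rfl

theorem rowF_iff {x : List ℤ} {a : FM} : rowF l x a = true ↔ ∀ j, 3 ∣ (toV l x ᵥ* toM l a - toV l x) j := by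
  simp only [rowF, all_range, beq_iff_eq, Int.dvd_iff_emod_eq_zero, mF_eq]
  rfl

theorem colF_iff {x : List ℤ} {a : FM} : colF l a x = true ↔ toM l a *ᵥ toV l x = toV l x := by
  simp only [colF, all_range, beq_iff_eq, mF_eq, funext_iff]
  rfl

/-- the checks -/
structure Ck (C : ChevalleyDatum) (l N : ℕ) (P : FM) where
  e : ℕ → FM
  S : ℕ → FM
  T : ℕ → ℕ → ℕ
  iz : ℕ
  iσ : ℕ
  r : Fin l
  xs : List ℤ
  y0 : List ℤ
  lam : List ℤ
  Z : FM
  U1 : FM
  U2 : FM
  U3 : FM
  Ys : FM
  Yt : FM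
  RP : FM
  hS : ∀ i : Fin l, toM l (S i) = sM C l i
  e0 : 0 < N ∧ eqF l (e 0) oneF = true
  clo : ∀ n < N, ∀ i < l, T n i < N ∧ eqF l (mF l (S i) (e n)) (e (T n i)) = true
  z_eq : iz < N ∧ toM l (e iz) = -1
  σ_lt : iσ < N
  hRP : toM l RP = toM l (S r) * toM l P
  σP : toM l P * toM l (e iσ) = toM l (e iσ) * toM l P
  σ_ne : toM l (e iσ) ≠ 1
  σ3 : toM l (e iσ) * toM l (e iσ) * toM l (e iσ) = 1
  rP : toM l P * toM l (S r) = toM l (S r) * toM l P
  rσ : toM l (e iσ) * toM l (S r) * toM l (e iσ) = toM l (S r)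
  three : ∀ n < N, eqF l (mF l P (e n)) (mF l (e n) P) = true → eqF l (mF l (e n) (e n)) oneF = true ∨
    eqF l (mF l (e n) (e n)) (e iσ) = true ∨ eqF l (mF l (e n) (e n)) (mF l (e iσ) (e iσ)) = true
  xs_σ : rowF l xs (e iσ) = true
  xs_r : toV l xs ᵥ* toM l (S r) = toV l xs
  xs_P : rowF l xs P = true
  xs_ne : ∃ j, ¬ 3 ∣ toV l xs j
  hZ : 1 + toM l P + toM l P * toM l P = (toM l (e iσ) - 1) * toM l Z
  hU : 1 = vecMulVec (toV l y0) (toV l xs) + (toM l (e iσ) - 1) * toM l U1 + (toM l P - 1) * toM l U2 +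
    (3 : ℤ) • toM l U3
  Ys_P : toM l Ys * toM l P = toM l Ys
  faith : ∀ n < N, eqF l (mF l P (e n)) (mF l (e n) P) = true → c3F l (mF l Ys (e n)) Ys = true →
    eqF l (e n) oneF = true
  Yt_P : toM l P * toM l Yt = toM l Yt
  reg : ∀ n < N, c3F l (mF l (e n) Yt) Yt = true → eqF l (e n) oneF = true
  wl : ∀ n < N, colF l (e n) lam = true → eqF l (e n) oneF = true ∨ eqF l (e n) (S r) = true
  r_lam : colF l (S r) lam = true
  P_lam : colF l P lam = true
  n1 : ((Finset.range N).filter fun n => eqF l (mF l P (e n)) (mF l (e n) P) = true).card = 12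
  n2 : ((Finset.range N).filter fun n => eqF l (mF l RP (e n)) (mF l (e n) RP) = true).card = 4
  n3 : ((Finset.range N).filter fun n => eqF l (mF l P (e n)) (mF l (e n) P) = true ∧ rowF l xs (e n) = true).card = 6
  n4 : ((Finset.range N).filter fun n => eqF l (mF l RP (e n)) (mF l (e n) RP) = true ∧ rowF l xs (e n) = true).card = 2
  syl : ∀ n < N, (∃ m < N, eqF l (mF l (mF l (e n) P) (e m)) (mF l (e m) P) = true) ∨ ∀ t : ℤ, ∃ x g h, ¬ 3 ∣ g ∧
    ((3 * t + 1) • toM l (mF l (e n) P) - 1).det = x * g ∧ ((3 * t + 1) • toM l P - 1).det = x * (3 * h)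
  w9 : ¬ 9 ∣ N

namespace Ck

variable {C : ChevalleyDatum} {M : CoxeterMatrix (Fin l)} {N : ℕ} {P : FM} (K : Ck C l N P) {hp : IsType C l M}
  {p : ℕ} [Fact p.Prime] {k : Type} [Field k] [CharP k p] [IsAlgClosed k] {Mx : Matrix (Fin l) (Fin l) ℤ}
  (X : XF hp p k Mx)

/-- the matrices of the Weyl group -/
noncomputable def wm (w : M.Group) : Matrix (Fin l) (Fin l) ℤ := X.D.Wm w

theorem all (w : M.Group) : ∃ n < N, wm X w = toM l (K.e n) := by
  obtain ⟨L, -, h⟩ := X.exists_word w
  rw [show wm X w = (L.map (sM C l)).prod from h]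
  clear h
  induction L with
  | nil => exact ⟨0, K.e0.1, (toM_one.symm.trans (eqF_iff.1 K.e0.2).symm :)⟩
  | cons i L ih =>
    obtain ⟨n, hn, h⟩ := ih
    obtain ⟨h1, h2⟩ := K.clo n hn i i.2
    exact ⟨_, h1, by rw [List.map_cons, List.prod_cons, h, ← K.hS, ← toM_mF, eqF_iff.1 h2]⟩

theorem exists_equiv (hN : Nat.card M.Group = N) : ∃ ε : M.Group ≃ Fin N, ∀ w, wm X w = toM l (K.e (ε w)) := by
  choose n h1 h2 using K.all X
  have : Finite M.Group := X.D.fW
  have h3 : Function.Bijective fun w => (⟨n w, h1 w⟩ : Fin N) :=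
    (Nat.bijective_iff_injective_and_card _).2 ⟨fun w w' h => X.Wm_inj (show wm X w = wm X w' by
      rw [h2, h2, show n w = n w' from congrArg Fin.val h]), by rw [hN, Nat.card_eq_fintype_card, Fintype.card_fin]⟩
  exact ⟨Equiv.ofBijective _ h3, h2⟩

theorem card_eq (ε : M.Group ≃ Fin N) {pr : M.Group → Prop} {b : ℕ → Prop} [DecidablePred b]
    (h : ∀ w, pr w ↔ b (ε w)) : Nat.card {w // pr w} = ((Finset.range N).filter b).card := by
  rw [Nat.card_congr (Equiv.subtypeEquiv (q := fun n : Fin N => b n) ε h), Nat.card_eq_fintype_card, Fintype.card_subtype]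
  refine Finset.card_bij (fun n _ => n.1) (fun n hn => ?_) (fun _ _ _ _ => Fin.ext) fun n hn => ?_
  · exact Finset.mem_filter.2 ⟨Finset.mem_range.2 n.2, (Finset.mem_filter.1 hn).2⟩
  · obtain ⟨h1, h2⟩ := Finset.mem_filter.1 hn
    exact ⟨⟨n, Finset.mem_range.1 h1⟩, Finset.mem_filter.2 ⟨Finset.mem_univ _, h2⟩, rfl⟩

include K in
theorem cm (hN : Nat.card M.Group = N) : Nonempty (Cm X.D (toM l P)) := by
  obtain ⟨ε, hε⟩ := K.exists_equiv X hN
  have hz : wm X (ε.symm ⟨_, K.z_eq.1⟩) = -1 := by rw [hε, ε.apply_symm_apply, K.z_eq.2]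
  have hσ : wm X (ε.symm ⟨_, K.σ_lt⟩) = toM l (K.e K.iσ) := by rw [hε, ε.apply_symm_apply]
  have hr : wm X (M.toCoxeterSystem.simple K.r) = toM l (K.S K.r) := (X.Wm_simple _).trans (K.hS _).symm
  generalize ε.symm ⟨_, K.z_eq.1⟩ = z at hz
  generalize ε.symm ⟨_, K.σ_lt⟩ = σ at hσ
  have h1 := K.three
  have h2 := K.faith
  have h3 := K.reg
  have h4 := K.wl
  have h5 := K.syl
  simp only [eqF_iff, c3F_iff, colF_iff, toM_mF, toM_one] at h1 h2 h3 h4 h5
  refine ⟨{
    z := z
    σ := σ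
    r := M.toCoxeterSystem.simple K.r
    xs := toV l K.xs
    y0 := toV l K.y0
    lam := toV l K.lam
    Z := toM l K.Z
    U1 := toM l K.U1
    U2 := toM l K.U2
    U3 := toM l K.U3
    Ys := toM l K.Ys
    Yt := toM l K.Yt
    z_eq := hz
    σP := show toM l P * wm X σ = wm X σ * toM l P by rw [hσ, K.σP]
    σ_ne := show wm X σ ≠ 1 by rw [hσ]; exact K.σ_ne
    σ3 := show wm X σ * wm X σ * wm X σ = 1 by rw [hσ, K.σ3]
    rP := show toM l P * wm X _ = wm X _ * toM l P by rw [hr, K.rP]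
    rσ := show wm X σ * wm X _ * wm X σ = wm X _ by rw [hr, hσ, K.rσ]
    sg_r := sg_smp X.D K.r
    three := fun x => show toM l P * wm X x = wm X x * toM l P →
        wm X x * wm X x = 1 ∨ wm X x * wm X x = wm X σ ∨ wm X x * wm X x = wm X σ * wm X σ by
      rw [hε x, hσ]
      exact h1 _ (ε x).2
    xs_σ := show ∀ j, 3 ∣ (toV l K.xs ᵥ* wm X σ - toV l K.xs) j by rw [hσ]; exact rowF_iff.1 K.xs_σ
    xs_r := show toV l K.xs ᵥ* wm X _ = _ by rw [hr]; exact K.xs_r
    xs_P := rowF_iff.1 K.xs_P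
    xs_ne := K.xs_ne
    hZ := show _ = (wm X σ - 1) * toM l K.Z by rw [hσ]; exact K.hZ
    hU := show _ = _ + (wm X σ - 1) * toM l K.U1 + _ + _ by rw [hσ]; exact K.hU
    Ys_P := K.Ys_P
    faith := fun x => show toM l P * wm X x = wm X x * toM l P →
        (∀ i j, 3 ∣ (toM l K.Ys * wm X x - toM l K.Ys) i j) → wm X x = 1 by
      rw [hε x]
      exact h2 _ (ε x).2
    Yt_P := K.Yt_P
    reg := fun x => show (∀ i j, 3 ∣ (wm X x * toM l K.Yt - toM l K.Yt) i j) → wm X x = 1 by
      rw [hε x]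
      exact h3 _ (ε x).2
    wl := fun x => show wm X x *ᵥ toV l K.lam = toV l K.lam → wm X x = 1 ∨ wm X x = wm X _ by
      rw [hε x, hr]
      exact h4 _ (ε x).2
    r_lam := show wm X _ *ᵥ toV l K.lam = _ by rw [hr]; exact colF_iff.1 K.r_lam
    P_lam := colF_iff.1 K.P_lam
    n1 := (card_eq ε fun x => show toM l P * wm X x = wm X x * toM l P ↔ _ by
      rw [hε x, eqF_iff, toM_mF, toM_mF]).trans K.n1
    n2 := (card_eq ε fun x => show wm X _ * toM l P * wm X x = wm X x * (wm X _ * toM l P) ↔ _ by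
      rw [hr, hε x, eqF_iff, toM_mF, toM_mF, K.hRP]).trans K.n2
    n3 := (card_eq ε fun x => show toM l P * wm X x = wm X x * toM l P ∧
        (∀ j, 3 ∣ (toV l K.xs ᵥ* wm X x - toV l K.xs) j) ↔ _ by
      rw [hε x, eqF_iff, toM_mF, toM_mF, rowF_iff]).trans K.n3
    n4 := (card_eq ε fun x => show wm X _ * toM l P * wm X x = wm X x * (wm X _ * toM l P) ∧
        (∀ j, 3 ∣ (toV l K.xs ᵥ* wm X x - toV l K.xs) j) ↔ _ by
      rw [hr, hε x, eqF_iff, toM_mF, toM_mF, rowF_iff, K.hRP]).trans K.n4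
    syl := fun x => show (∃ v, wm X x * toM l P * wm X v = wm X v * toM l P) ∨ ∀ n : ℤ, ∃ y g h, ¬ 3 ∣ g ∧
        ((3 * n + 1) • (wm X x * toM l P) - 1).det = y * g ∧ ((3 * n + 1) • toM l P - 1).det = y * (3 * h) by
      rw [hε x]
      refine (h5 _ (ε x).2).imp (fun ⟨m, hm, h⟩ => ⟨ε.symm ⟨m, hm⟩, ?_⟩) id
      rw [hε, ε.apply_symm_apply]
      exact h
    w9 := show ¬ 9 ∣ Nat.card M.Group by rw [hN]; exact K.w9 }⟩

end Ck

end Cfsg.Agent.KZ.G2

private theorem dce_c704c93ef1b6 : _root_.True := by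
  try have : _root_.True := by simp only [_root_.Cfsg.Agent.KZ.G2.c3F.eq_1]
  try have : _root_.True := by simp only [_root_.Cfsg.Agent.KZ.G2.rowF.eq_1]
  try have : _root_.True := by simp only [_root_.Cfsg.Agent.KZ.G2.mF.eq_1]
  try have : _root_.True := by simp only [_root_.Cfsg.Agent.KZ.G2.oneF.eq_1]
  try have : _root_.True := by simp only [_root_.Cfsg.Agent.KZ.G2.toM.eq_1]
  try have : _root_.True := by simp only [_root_.Cfsg.Agent.KZ.G2.eqF.eq_1]
  try have : _root_.True := by simp only [_root_.Cfsg.Agent.KZ.G2.colF.eq_1]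
  exact _root_.True.intro
end

-- part: KZ/G2/Dat
section
prune_inst 0x40000000000000000000000000000000000000000000000000004000000000000000000000004000000000008000000000000000000000000000000000000000000000000000000000000000001180c00000000000000000000000000000000000000000
set_option linter.all false
open scoped Cfsg.Agent.FastGrp

/-- decoders of the packed data (elaboration time only) -/
private noncomputable def pk61d (b S i : Nat) : Nat := Nat.mod (Nat.shiftRight S (Nat.mul b i)) (Nat.shiftLeft (nat_lit 1) b)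
private noncomputable def pk61c {α : Type} (t : Nat) (a : α) (f : Nat → α) : α := Nat.rec a (fun k _ => f k) t
private noncomputable def pk61f {α : Type} (t : Nat) (f : Nat → α) : α := Nat.rec (f Nat.zero) (fun k _ => f (Nat.succ k)) t
private noncomputable def pk61l {α : Type} (f : Nat → α) (s e : Nat) (tl : List α) : List α :=
  pk61f e fun e => Nat.rec tl (fun k ih => List.cons (pk61f (Nat.sub e (Nat.succ k)) f) ih) (Nat.sub e s)
private noncomputable def pk61o {α : Type} (O : (n : Nat) → OfNat α n → α) (I : (n : Nat) → OfNat α n) (t : Nat) : α :=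
  pk61c t (O (nat_lit 0) (I (nat_lit 0))) fun k => O (Nat.succ k) (I (Nat.succ k))
private noncomputable def pk61y (O : (n : Nat) → OfNat Int n → Int) (I : (n : Nat) → OfNat Int n) (G : Int → Int) (t : Nat) : Int := pk61f t fun t =>
  pk61c (Nat.mod t (nat_lit 2)) (pk61o O I (Nat.div t (nat_lit 2))) fun _ => G (pk61o O I (Nat.succ (Nat.div t (nat_lit 2))))


/-!
# KZ, `G₂(q)` and `³D₄(q)`: the data (helper50)

`ckG` : type `G₂`; `ckD` : type `D₄` with the triality.
-/

set_option autoImplicit false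

namespace Cfsg.Agent.KZ.G2

open Cfsg Cfsg.Lie Cfsg.Agent.KZ.DatX Matrix

/-- the matrices of the Weyl group -/
def lG : List (List (List ℤ)) := [
  [[1, 0], [0, 1]], [[-1, 0], [3, 1]], [[1, 1], [0, -1]], [[2, 1], [-3, -1]], [[-1, -1], [3, 2]], [[-2, -1], [3, 2]],
  [[2, 1], [-3, -2]], [[1, 1], [-3, -2]], [[-2, -1], [3, 1]], [[-1, -1], [0, 1]], [[1, 0], [-3, -1]],
  [[-1, 0], [0, -1]]]

/-- left multiplication by the simple reflections -/
def tG : List (List ℕ) := [
  [1, 2], [0, 3], [4, 0], [5, 1], [2, 6], [3, 7], [8, 4], [9, 5], [6, 10], [7, 11], [11, 8], [10, 9]]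

/-- the matrices of the Weyl group -/
def lD : List (List (List ℤ)) :=
  let y0 : List (List (List ℤ)) := (by
  refine (?fq9001 : (fun (Oz : (n : Nat) → OfNat Int n → Int) (Iz : (n : Nat) → OfNat Int n) (Gz : Int → Int) => (pk61l (fun i0 => (pk61l (fun i1 => (pk61l (fun i2 => (pk61y Oz Iz Gz (pk61d (nat_lit 2) 
    (nat_lit 0x401004014010050244140805402014018010440145150a0440201502801045024414010a442810058814400554042815802054010454884545150208452a10048a15400455052a148020550205558a444428150a8814450a5408201588285405085480455404012aa80440151444a8550454018a04a81045452a14088a154408550a20148a2a55040a55804455050228aa0540141545aa540555028805aa10445d012a1088285d0a015d8a405408052aa80844151040a85d0854058a08a81445a804552a28448055144401aa1488205504a8558a5d0228108a2a5d08025d8840550a0428aa0a4514) i2))) (Nat.mul (nat_lit 4) i1) (Nat.mul (nat_lit 4) (Nat.succ i1)) List.nil)) (Nat.mul (nat_lit 4) i0) (Nat.mul (nat_lit 4) (Nat.succ i0)) List.nil)) (nat_lit 0) (nat_lit 58) List.nil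 : List (List (List ℤ))))
    = ?xq9001 → (List (List (List ℤ)))) ?hq9001; (case hq9001 => (set_option maxRecDepth 1000000 in conv => lhs; reduce)); intro _; exact ?xq9001 (@OfNat.ofNat Int) (@instOfNat) (@Neg.neg Int Int.instNegInt) : List (List (List ℤ)))
  let y1 : List (List (List ℤ)) := (by
  refine (?fq9002 : (fun (Oz : (n : Nat) → OfNat Int n → Int) (Iz : (n : Nat) → OfNat Int n) (Gz : Int → Int) (tl : List (List (List ℤ))) => (pk61l (fun i0 => (pk61l (fun i1 => (pk61l (fun i2 => (pk61y Oz Iz Gz (pk61d (nat_lit 3) 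
    (nat_lit 0x402004922590122490084100124920492084920092480900922094002480492090024900494120802480094922484102590010120804a20012080400492094a22480012590124000014a20482004900102590920802004102590402000094a20404000902590104902594120012594922000902080494920904100082490484102094922590014920402590020100804a20022090400482084a22490022590104000024a20492004920122590900802004122590402000084a20404000922590124922594100022594902000922090484900924120092480494122084902590024900404a20012480800922094102480492090124900494120902480014a22484000092494a22080802000494a20804000102590404002094a22490094a20480012590924000014a20082000904102594922590014120804a20010080404a20022490800902084122490482080104920484100922490024a22494000082484a22090802000484a20804000122590404002084a22480084a20490022590904000024a2009200092412259490259002410080) i2))) (Nat.mul (nat_lit 4) i1) (Nat.mul (nat_lit 4) (Nat.succ i1)) List.nil)) (Nat.mul (nat_lit 4) i0) (Nat.mul (nat_lit 4) (Nat.succ i0)) List.nil)) (nat_lit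 0) (nat_lit 67) tl : List (List (List ℤ))))
    = ?xq9002 → (List (List (List ℤ)))) ?hq9002; (case hq9002 => (set_option maxRecDepth 1000000 in conv => lhs; reduce)); intro _; exact ?xq9002 (@OfNat.ofNat Int) (@instOfNat) (@Neg.neg Int Int.instNegInt) y0 : List (List (List ℤ)))
  (by
  refine (?fq9003 : (fun (Oz : (n : Nat) → OfNat Int n → Int) (Iz : (n : Nat) → OfNat Int n) (Gz : Int → Int) (tl : List (List (List ℤ))) => (pk61l (fun i0 => (pk61l (fun i1 => (pk61l (fun i2 => (pk61y Oz Iz Gz (pk61d (nat_lit 3) 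
    (nat_lit 0x888) (pk61d (nat_lit 2) 
    (nat_lit 0xae0205100a55a8442a4510a82a8a0154158a40a8550aa81405552a8805aa0844208055ae55058a28aa05081401ae44804515ae04ae0114200854aa45284410aa28880255148840aa5408aa150454288a04a80a45208054ae5404882aa8040a1502ae45804414ae05ae0215200a5520880aaa01442a8a55a8550a8028aa0a011405aa40884515aa08aa051028452a88048a1528040854208a08a80245288854aa5408802aa808021504a8408a4414a80aa804102a44288a0588142a050aaa45884010aa01aa0a1528452a80088a1520088a2a010408a8448a4010a802a808142a4428800a8814200a8828020540208a0180102a018a2a050840208802801028028828040a80200a0180200802) i2)))) (Nat.mul (nat_lit 4) i1) (Nat.mul (nat_lit 4) (Nat.succ i1)) List.nil)) (Nat.mul (nat_lit 4) i0) (Nat.mul (nat_lit 4) (Nat.succ i0)) List.nil)) (nat_lit 0) (nat_lit 67) tl : List (List (List ℤ))))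
    = ?xq9003 → (List (List (List ℤ)))) ?hq9003; (case hq9003 => (set_option maxRecDepth 1000000 in conv => lhs; reduce)); intro _; exact ?xq9003 (@OfNat.ofNat Int) (@instOfNat) (@Neg.neg Int Int.instNegInt) y1 : List (List (List ℤ)))

/-- left multiplication by the simple reflections -/
def tD : List (List ℕ) :=
  (by
  refine (?fq9004 : (fun (On : (n : Nat) → OfNat Nat n → Nat) (In : (n : Nat) → OfNat Nat n) => ((pk61l (fun i1 => (pk61l (fun i2 => (pk61o On In (pk61d (nat_lit 8) 
    (nat_lit 0xbbbcbdbeb8b9babfb5b6bfb7b3bfb4b9bfb3b2b8afb0beb1adbeaebcbeadacbbaaabb1bda8bda9abbda8a7aaa5a9bca6bcbba4ada7a2bba3a0a1b7ba9eba9fa1ba9e9da09b9fb99cb9b89ab39d98b89996b797b6b79695b593b4b694b6b59296b290b5918f949cb4b4938e8f8e8cb38d918b99b290b28c8b89b18ab0b18988af86aeb087b0af8589ac83af848287a6aeae868182817fad80847ea3ac83ac7f7e7c8aab7dabaa7ba88879aa7a78a67da9a9a577787775a876a3747aa7a2a77574a67873a5a471a572727080a471a4a27074a36fa26d97a16ea1a06c9e956aa06b699c6e9f9f9b686968669e67996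56b9d989d66659c69649b9a629b6363618d9a629a9861659960985f6e9497976d5e5f5e5c965d6b5b91956a955c5b948f5a939258935959575d92589290578b91569064548f558d53558e8c8e5853538d528c51608b52507d878a8a7c4f504f4d894e7a4c848879884d4c87824b868549864a4a484e85498583487e84478373458246804446817f8149444480437f426f7e437d50417c7b3f7c40403e767b3f7b793e4c7a3d79413b783c763a3c777577713a3a763975383d74394637727345733b37707236713543706f6f4238356e5f346d6c326d333331676c326c6a315b6b306a342e692f672d2f686668622d2d672c662b30652c552a636454642e2a616329622852616060512b285a265f275d25275e5c5e3225255d245c23565b242722595a265a54225759215820245756562351202a551f541e1f532152281e514b1c501d4e1b1d4f4d4f3f1b1b4e1a4d19474c1a1d184a4b1c4b4518484a1749161a4847471942163746154514154417433514423c1340413b411c133e40123f11393e3d3d381911133c103b0f103a3639110f380e363710360e350f2f0d33342e34260d31330c320b2c3130302b230b0d2f0a2e090a2d292c0b092b08292a0a29082809222707260607250c242006230521221f2105201e1f1e0805181d041c03041b121a160319021718151702161415140e020112130412011103100f010e000c0d070c000b060a0900080706050004030201)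 i2))) (Nat.mul (nat_lit 4) i1) (Nat.mul (nat_lit 4) (Nat.succ i1)) List.nil)) (nat_lit 0) (nat_lit 192) List.nil) : List (List ℕ)))
    = ?xq9004 → (List (List ℕ))) ?hq9004; (case hq9004 => (set_option maxRecDepth 1000000 in conv => lhs; reduce)); intro _; exact ?xq9004 (@OfNat.ofNat Nat) instOfNatNat : List (List ℕ))

/-! ### characteristic polynomials -/

theorem det_two (a : FM) (Q : ℤ) :
    (Q • toM 2 a - 1).det = 1 - (a 0 0 + a 1 1) * Q + (a 0 0 * a 1 1 - a 0 1 * a 1 0) * Q ^ 2 := by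
  rw [det_fin_two]
  simp [toM]
  ring

/-- a minor of size `2` -/
def m2 (a : FM) (r s c d : ℕ) : ℤ := a r c * a s d - a r d * a s c

/-- a minor of size `3` -/
def m3 (a : FM) (r s t c d e : ℕ) : ℤ := a r c * m2 a s t d e - a r d * m2 a s t c e + a r e * m2 a s t c d

/-- the coefficients -/
def cf (a : FM) : ℤ × ℤ × ℤ × ℤ :=
  (a 0 0 + a 1 1 + a 2 2 + a 3 3,
    m2 a 0 1 0 1 + m2 a 0 2 0 2 + m2 a 0 3 0 3 + m2 a 1 2 1 2 + m2 a 1 3 1 3 + m2 a 2 3 2 3,
    m3 a 0 1 2 0 1 2 + m3 a 0 1 3 0 1 3 + m3 a 0 2 3 0 2 3 + m3 a 1 2 3 1 2 3,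
    a 0 0 * m3 a 1 2 3 1 2 3 - a 0 1 * m3 a 1 2 3 0 2 3 + a 0 2 * m3 a 1 2 3 0 1 3 - a 0 3 * m3 a 1 2 3 0 1 2)

theorem det_four (a : FM) (Q : ℤ) : (Q • toM 4 a - 1).det =
    1 - (cf a).1 * Q + (cf a).2.1 * Q ^ 2 - (cf a).2.2.1 * Q ^ 3 + (cf a).2.2.2 * Q ^ 4 := by
  rw [det_succ_row_zero]
  simp only [Fin.sum_univ_four, det_fin_three, submatrix_apply]
  simp [Fin.succAbove, Fin.succ, Fin.castSucc, Fin.castAdd, Fin.castLE, Fin.lt_def, toM, cf, m2, m3, one_apply,
    Fin.ext_iff]
  ring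

theorem not_dvd_of {g : ℤ} (u : ℤ) (h : g = 3 * u + 1 ∨ g = 3 * u + 2) : ¬ 3 ∣ g := by omega

/-! ### type `G₂` -/

/-- the elements -/
def eG (n : ℕ) : FM := gt (lG.getD n [])

theorem sylG : ∀ n < 12, (fun a : FM => (a 0 0 + a 1 1, a 0 0 * a 1 1 - a 0 1 * a 1 0)) (mF 2 (eG n) oneF) ∈
    [(0, -1), (1, 1), (-1, 1), (-2, 1)] ∨
      ∃ m < 12, eqF 2 (mF 2 (mF 2 (eG n) oneF) (eG m)) (mF 2 (eG m) oneF) = true := by decide +kernel

/-- the checks -/
def ckG : Ck chevG2 2 12 oneF where
  e := eG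
  S i := gt (([[[-1, 0], [3, 1]], [[1, 1], [0, -1]]] : List (List (List ℤ))).getD i [])
  T n i := (tG.getD n []).getD i 0
  iz := 11
  iσ := 8
  r := 0
  xs := [3, 2]
  y0 := [0, -1]
  lam := [0, 1]
  Z := gt [[0, 1], [-3, -3]]
  U1 := gt [[0, 0], [-1, 0]]
  U2 := gt []
  U3 := gt [[0, 0], [1, 1]]
  Ys := oneF
  Yt := oneF
  RP := gt [[-1, 0], [3, 1]]
  hS := by decide +kernel
  e0 := by decide +kernel
  clo := by decide +kernel
  z_eq := by decide +kernel
  σ_lt := by decide +kernel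
  hRP := by decide +kernel
  σP := by decide +kernel
  σ_ne := by decide +kernel
  σ3 := by decide +kernel
  rP := by decide +kernel
  rσ := by decide +kernel
  three := by decide +kernel
  xs_σ := by decide +kernel
  xs_r := by decide +kernel
  xs_P := by decide +kernel
  xs_ne := by decide +kernel
  hZ := by decide +kernel
  hU := by decide +kernel
  Ys_P := by decide +kernel
  faith := by decide +kernel
  Yt_P := by decide +kernel
  reg := by decide +kernel
  wl := by decide +kernel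
  r_lam := by decide +kernel
  P_lam := by decide +kernel
  n1 := by decide +kernel
  n2 := by decide +kernel
  n3 := by decide +kernel
  n4 := by decide +kernel
  syl n hn := by
    refine (sylG n hn).symm.imp id fun h t => ?_
    rw [det_two, det_two]
    simp only [List.mem_cons, Prod.mk.injEq, List.not_mem_nil, or_false] at h
    rcases h with ⟨h1, h2⟩ | ⟨h1, h2⟩ | ⟨h1, h2⟩ | ⟨h1, h2⟩ <;> rw [h1, h2]
    · exact ⟨3 * t, -(3 * t + 2), t, by omega, by ring, by simp [oneF]; ring⟩
    · exact ⟨1, _, 3 * t ^ 2, not_dvd_of (3 * t ^ 2 + t) (.inl rfl), by ring, by simp [oneF]; ring⟩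
    · exact ⟨3, _, t ^ 2, not_dvd_of (t ^ 2 + t) (.inl rfl), by ring, by simp [oneF]; ring⟩
    · exact ⟨1, _, 3 * t ^ 2, not_dvd_of (3 * t ^ 2 + 4 * t + 1) (.inl rfl), by ring, by simp [oneF]; ring⟩
  w9 := by decide

/-! ### type `D₄` -/

/-- the elements -/
def eD (n : ℕ) : FM := gt (lD.getD n [])

/-- the triality -/
def pD : FM := gt [[0, 0, 0, 1], [0, 1, 0, 0], [1, 0, 0, 0], [0, 0, 1, 0]]

theorem toM_pD : toM 4 pD = P4 := by decide +kernel

theorem cf_pD : cf pD = (1, 0, 1, 1) := by decide +kernel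

theorem sylD : ∀ n < 192, cf (mF 4 (eD n) pD) ∈
    [(1, 0, -1, -1), (-1, 0, 1, -1), (0, -1, 0, 1), (2, 3, 2, 1), (-1, 0, -1, 1), (-2, 3, -2, 1)] ∨
      ∃ m < 192, eqF 4 (mF 4 (mF 4 (eD n) pD) (eD m)) (mF 4 (eD m) pD) = true := by decide +kernel

/-- the checks -/
def ckD : Ck chevD4 4 192 pD where
  e := eD
  S i := gt (([[[-1, 0, 0, 0], [1, 1, 0, 0], [0, 0, 1, 0], [0, 0, 0, 1]],
    [[1, 1, 0, 0], [0, -1, 0, 0], [0, 1, 1, 0], [0, 1, 0, 1]],
    [[1, 0, 0, 0], [0, 1, 1, 0], [0, 0, -1, 0], [0, 0, 0, 1]],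
    [[1, 0, 0, 0], [0, 1, 0, 1], [0, 0, 1, 0], [0, 0, 0, -1]]] : List (List (List ℤ))).getD i [])
  T n i := (tD.getD n []).getD i 0
  iz := 191
  iσ := 150
  r := 1
  xs := [1, 0, 1, -2]
  y0 := [1, 0, 0, 0]
  lam := [1, 0, 1, 1]
  Z := gt [[-3, -3, -3, -3], [1, 0, 1, 1]]
  U1 := gt [[0, -1, 0, 0]]
  U2 := gt [[0, 0, 1, 0], [], [], [0, 0, 0, -1]]
  U3 := gt [[0, 0, 0, 1]]
  Ys := gt [[1, 0, 1, 1], [0, 1, 0, 0]]
  Yt := gt [[1, 0], [0, 1], [1, 0], [1, 0]]
  RP := gt [[0, 1, 0, 1], [0, -1, 0, 0], [1, 1, 0, 0], [0, 1, 1, 0]]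
  hS := by decide +kernel
  e0 := by decide +kernel
  clo := by decide +kernel
  z_eq := by decide +kernel
  σ_lt := by decide +kernel
  hRP := by decide +kernel
  σP := by decide +kernel
  σ_ne := by decide +kernel
  σ3 := by decide +kernel
  rP := by decide +kernel
  rσ := by decide +kernel
  three := by decide +kernel
  xs_σ := by decide +kernel
  xs_r := by decide +kernel
  xs_P := by decide +kernel
  xs_ne := by decide +kernel
  hZ := by decide +kernel
  hU := by decide +kernel
  Ys_P := by decide +kernel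
  faith := by decide +kernel
  Yt_P := by decide +kernel
  reg := by decide +kernel
  wl := by decide +kernel
  r_lam := by decide +kernel
  P_lam := by decide +kernel
  n1 := by decide +kernel
  n2 := by decide +kernel
  n3 := by decide +kernel
  n4 := by decide +kernel
  syl n hn := by
    refine (sylD n hn).symm.imp id fun h t => ?_
    rw [det_four, det_four, cf_pD]
    simp only [List.mem_cons, List.not_mem_nil, or_false] at h
    rcases h with h | h | h | h | h | h <;> rw [h]
    · exact ⟨3 * t, _, 9 * t ^ 3 + 9 * t ^ 2 + 3 * t,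
        not_dvd_of (-(9 * t ^ 3 + 9 * t ^ 2 + 3 * t + 1)) (.inl rfl), by ring, by ring⟩
    · exact ⟨(3 * t + 1) ^ 3 - 1, -(3 * t + 2), t, by omega, by ring, by ring⟩
    · exact ⟨1, _, t * ((3 * t + 1) ^ 3 - 1),
        not_dvd_of (27 * t ^ 4 + 36 * t ^ 3 + 15 * t ^ 2 + 2 * t) (.inl rfl), by ring, by ring⟩
    · exact ⟨1, _, t * ((3 * t + 1) ^ 3 - 1),
        not_dvd_of (27 * t ^ 4 + 18 * t ^ 3 + 9 * t ^ 2 + 2 * t) (.inl rfl), by ring, by ring⟩
    · exact ⟨1, _, t * ((3 * t + 1) ^ 3 - 1),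
        not_dvd_of (27 * t ^ 4 + 45 * t ^ 3 + 27 * t ^ 2 + 8 * t + 1) (.inl rfl), by ring, by ring⟩
    · exact ⟨9, _, t ^ 2 * (3 * t ^ 2 + 3 * t + 1),
        not_dvd_of (3 * t ^ 4 + 6 * t ^ 3 + 5 * t ^ 2 + 2 * t) (.inl rfl), by ring, by ring⟩
  w9 := by decide

end Cfsg.Agent.KZ.G2

private theorem dce_42100e3fe715 : _root_.True := by
  try have : _root_.True := by simp only [_root_.Cfsg.Agent.KZ.G2.m3.eq_1]
  try have : _root_.True := by simp only [_root_.Fin.castAdd.eq_1]
  try have : _root_.True := by simp only [_root_.Cfsg.Agent.KZ.G2.m2.eq_1]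
  try have : _root_.True := by simp only [_root_.Cfsg.Agent.KZ.G2.cf.eq_1]
  exact _root_.True.intro
end
end
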